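import Cfsg.Agent.H85.AbTwo.Signal
import Cfsg.Agent.H20.PrincipalFreeApps
import Cfsg.Agent.H20.HomocyclicNormal

/-!
An abelian Sylow 2-subgroup on which an automizer of odd prime order acts without fixed points:
the involutions, and the case of rank two (for S4568).
-/

set_option autoImplicit false
set_option linter.style.haveILetI false
set_option linter.unusedSectionVars false

open Cfsg

namespace H25.AbPrime

universe u

variable {G : Type u} [Group G] [Fintype G] (P : Sylow 2 G) [hc : IsMulCommutative P]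

theorem comm_mem {a b : G} (ha : a ∈ (P : Subgroup G)) (hb : b ∈ (P : Subgroup G)) :
    a * b = b * a :=
  congrArg Subtype.val (hc.is_comm.comm ⟨a, ha⟩ ⟨b, hb⟩)

/-- The elements of order at most two of `P`. -/
def omega : Subgroup G where
  carrier := {u | u ∈ (P : Subgroup G) ∧ u * u = 1}
  one_mem' := ⟨one_mem _, one_mul 1⟩
  mul_mem' := by
    rintro a b ⟨ha, ha2⟩ ⟨hb, hb2⟩
    refine ⟨mul_mem ha hb, ?_⟩
    calc a * b * (a * b) = a * (b * a) * b := by group
      _ = a * (a * b) * b := by rw [comm_mem P hb ha]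
      _ = (a * a) * (b * b) := by group
      _ = 1 := by rw [ha2, hb2, one_mul]
  inv_mem' := by
    rintro a ⟨ha, ha2⟩
    exact ⟨inv_mem ha, by rw [← mul_inv_rev, ha2, inv_one]⟩

theorem omega_le : omega P ≤ (P : Subgroup G) := fun _ h => h.1

theorem mem_omega {u : G} : u ∈ omega P ↔ u ∈ (P : Subgroup G) ∧ u * u = 1 := Iff.rfl

theorem elementary : IsElementaryAbelian 2 (omega P) :=
  ⟨⟨⟨fun a b => Subtype.ext (comm_mem P a.2.1 b.2.1)⟩⟩, fun u hu => by rw [pow_two]; exact hu.2⟩

theorem orderOf_two {u : G} (hu : u ∈ omega P) (hu1 : u ≠ 1) : orderOf u = 2 :=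
  orderOf_eq_prime (by rw [pow_two]; exact hu.2) hu1

theorem mem_omega_of_two {u : G} (hu : u ∈ (P : Subgroup G)) (hu2 : orderOf u = 2) : u ∈ omega P :=
  ⟨hu, by rw [← pow_two, ← hu2, pow_orderOf_eq_one]⟩

theorem conj_mem_omega {n u : G} (hn : n ∈ Subgroup.normalizer ((P : Subgroup G) : Set G))
    (hu : u ∈ omega P) : n * u * n⁻¹ ∈ omega P :=
  ⟨(Subgroup.mem_normalizer_iff.1 hn u).1 hu.1, by
    rw [show n * u * n⁻¹ * (n * u * n⁻¹) = n * (u * u) * n⁻¹ by group, hu.2, mul_one,
      mul_inv_cancel]⟩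

variable (hfree : ∀ u ∈ (P : Subgroup G), u ≠ 1 → H85.AbTwo.Reg (P : Subgroup G) u)

include hfree

theorem freeSylow : H20.FreeSylow P :=
  ⟨fun _ ha _ hb => comm_mem P ha hb, fun y hy hy1 n hn =>
    hfree y hy hy1 n hn.2 (H85.AbTwo.conj_eq_iff.2 (H85.AbTwo.mem_cent_iff.1 hn.1))⟩

/-- The orbit map of the automizer at a nontrivial element of `omega P`. -/
theorem card_autG_lt :
    ∀ x ∈ omega P, x ≠ 1 →
      Nat.card (H20.autG (P : Subgroup G)) + 1 ≤ Nat.card (omega P) := by
  classical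
  intro x hx hx1
  haveI : Fintype (omega P) := Fintype.ofFinite _
  haveI : Fintype (H20.autG (P : Subgroup G)) := Fintype.ofFinite _
  let f : H20.autG (P : Subgroup G) → omega P := fun a =>
    ⟨((a : MulAut (P : Subgroup G)) ⟨x, hx.1⟩ : G), by
      refine ⟨((a : MulAut (P : Subgroup G)) ⟨x, hx.1⟩).2, ?_⟩
      rw [← Subgroup.coe_mul, ← map_mul]
      rw [show (⟨x, hx.1⟩ * ⟨x, hx.1⟩ : (P : Subgroup G)) = 1 from Subtype.ext hx.2, map_one,
        Subgroup.coe_one]⟩
  have hinj : Function.Injective f := fun a b h =>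
    (freeSylow P hfree).eq_of_apply_eq (u := ⟨x, hx.1⟩) (fun e => hx1 (congrArg Subtype.val e))
      (Subtype.ext (congrArg Subtype.val h :))
  have h1 : (Finset.univ.image f).card + 1 ≤ Fintype.card (omega P) := by
    rw [← Finset.card_univ (α := omega P)]
    refine Finset.card_lt_card ⟨Finset.subset_univ _, fun h => ?_⟩
    obtain ⟨a, -, ha⟩ := Finset.mem_image.1 (h (Finset.mem_univ (1 : omega P)))
    have e : (((a : MulAut (P : Subgroup G)) ⟨x, hx.1⟩ : (P : Subgroup G)) : G) = 1 :=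
      congrArg Subtype.val ha
    exact hx1 (congrArg Subtype.val
      (MulEquiv.map_eq_one_iff _ |>.1 (Subtype.ext e : (a : MulAut (P : Subgroup G)) ⟨x, hx.1⟩ = 1)))
  rw [Finset.card_image_of_injective _ hinj, Finset.card_univ] at h1
  rw [Nat.card_eq_fintype_card, Nat.card_eq_fintype_card]
  exact h1

/-- A transitive automizer has one element fewer than `omega P`. -/
theorem card_autG_eq {x : G} (hx : x ∈ omega P) (hx1 : x ≠ 1)
    (htrans : ∀ u ∈ omega P, u ≠ 1 → IsConj x u) :
    Nat.card (H20.autG (P : Subgroup G)) + 1 = Nat.card (omega P) := by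
  classical
  refine le_antisymm (card_autG_lt P hfree x hx hx1) ?_
  haveI : Fintype (H20.autG (P : Subgroup G)) := Fintype.ofFinite _
  let g : Option (H20.autG (P : Subgroup G)) → G := fun o =>
    o.elim 1 fun a => ((a : MulAut (P : Subgroup G)) ⟨x, hx.1⟩ : G)
  have hsub : ∀ u ∈ omega P, u ∈ Set.range g := by
    intro u hu
    rcases eq_or_ne u 1 with rfl | hu1
    · exact ⟨none, rfl⟩
    · obtain ⟨a, ha⟩ := (freeSylow P hfree).exists_autG (u := ⟨x, hx.1⟩) (v := ⟨u, hu.1⟩)
        (htrans u hu hu1)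
      exact ⟨some a, congrArg Subtype.val ha⟩
  calc Nat.card (omega P) ≤ (Set.range g).ncard :=
        le_of_eq_of_le (Nat.card_coe_set_eq ((omega P : Subgroup G) : Set G))
          (Set.ncard_le_ncard (fun u hu => hsub u hu) (Set.toFinite _))
    _ ≤ Nat.card (Option (H20.autG (P : Subgroup G))) := by
        rw [← Nat.card_coe_set_eq]; exact Finite.card_range_le g
    _ = _ := by rw [Nat.card_eq_fintype_card, Fintype.card_option, Nat.card_eq_fintype_card]

omit hfree

/-- The elements killed by `2 ^ k` are at most `|omega P| ^ k`. -/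
theorem card_le_pow (k : ℕ) :
    ∀ Q : Subgroup G, Q ≤ (P : Subgroup G) → (∀ u ∈ Q, u ^ 2 ^ k = 1) →
      Nat.card Q ≤ Nat.card (omega P) ^ k := by
  induction k with
  | zero =>
    intro Q _ h
    have : Q = ⊥ := (Subgroup.eq_bot_iff_forall Q).2 fun u hu => by simpa using h u hu
    simp [this]
  | succ k ih =>
    intro Q hQ h
    let sq : Q →* G := MonoidHom.mk' (fun u => (u : G) * u) fun a b => by
      show (a : G) * b * ((a : G) * b) = (a : G) * a * ((b : G) * b)
      calc (a : G) * b * ((a : G) * b) = (a : G) * ((b : G) * a) * b := by group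
        _ = (a : G) * ((a : G) * b) * b := by rw [comm_mem P (hQ b.2) (hQ a.2)]
        _ = _ := by group
    have hk : Nat.card sq.ker ≤ Nat.card (omega P) := by
      rw [← Subgroup.card_map_of_injective Q.subtype_injective]
      refine Subgroup.card_le_of_le ?_
      rintro _ ⟨u, hu, rfl⟩
      exact ⟨hQ u.2, hu⟩
    have hr : Nat.card sq.range ≤ Nat.card (omega P) ^ k := by
      refine ih sq.range ?_ ?_
      · rintro _ ⟨u, rfl⟩; exact mul_mem (hQ u.2) (hQ u.2)
      · rintro _ ⟨u, rfl⟩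
        show ((u : G) * u) ^ 2 ^ k = 1
        rw [← pow_two, ← pow_mul, ← pow_succ', h _ u.2]
    rw [← Subgroup.card_mul_index sq.ker, Subgroup.index_ker, pow_succ']
    exact Nat.mul_le_mul hk hr

include hfree

/-- With four elements of order at most two, a free nontrivial automorphism makes `P` homocyclic
of rank two. -/
theorem homocyclic_of_four (h4 : Nat.card (omega P) = 4)
    (ha : 2 ≤ Nat.card (H20.autG (P : Subgroup G))) :
    ∃ m : ℕ, 1 ≤ m ∧
      Nonempty ((P : Subgroup G) ≃* Multiplicative (ZMod (2 ^ m) × ZMod (2 ^ m))) := by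
  classical
  haveI : Fact (Nat.Prime 2) := ⟨Nat.prime_two⟩
  obtain ⟨α, hα⟩ : ∃ α : H20.autG (P : Subgroup G), α ≠ 1 := by
    by_contra hcon
    push Not at hcon
    haveI : Subsingleton (H20.autG (P : Subgroup G)) := ⟨fun a b => (hcon a).trans (hcon b).symm⟩
    rw [Nat.card_unique] at ha
    omega
  let V := (P : Subgroup G)
  obtain ⟨m, hm⟩ : ∃ m, Monoid.exponent V = 2 ^ m := by
    obtain ⟨j, hj⟩ := IsPGroup.iff_card.1 P.2
    obtain ⟨m, -, hm⟩ := (Nat.dvd_prime_pow Nat.prime_two).1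
      (hj ▸ (Group.exponent_dvd_nat_card (G := V)))
    exact ⟨m, hm⟩
  have hexp : ∀ v : V, v ^ 2 ^ m = 1 := fun v => hm ▸ Monoid.pow_exponent_eq_one v
  have hm1 : 1 ≤ m := by
    by_contra h0
    obtain rfl : m = 0 := by omega
    have : (omega P) = ⊥ := (Subgroup.eq_bot_iff_forall _).2 fun u hu => by
      have := congrArg Subtype.val (hexp ⟨u, hu.1⟩)
      simpa using this
    rw [this, Subgroup.card_bot] at h4
    omega
  letI : CommGroup V := { (inferInstance : Group V) with mul_comm := fun a b => hc.is_comm.comm a b }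
  obtain ⟨a, ha'⟩ := Monoid.exists_orderOf_eq_exponent
    (Monoid.ExponentExists.of_finite (G := V))
  rw [hm] at ha'
  set b : V := (α : MulAut V) a with hb
  have hbo : orderOf b = 2 ^ m := by rw [hb, MulEquiv.orderOf_eq, ha']
  -- the involutions in the two cyclic subgroups differ
  set t : V := a ^ 2 ^ (m - 1) with ht
  have hto : orderOf t = 2 := by
    rw [ht, orderOf_pow_of_dvd (by positivity) (ha' ▸ pow_dvd_pow 2 (Nat.sub_le m 1)), ha',
      Nat.pow_div (Nat.sub_le m 1) two_pos, show m - (m - 1) = 1 by omega, pow_one]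
  have hne : (α : MulAut V) t ≠ t := fun e => hα
    ((freeSylow P hfree).autG_free (fun e1 => by rw [e1, orderOf_one] at hto; omega) e)
  have hdisj : ∀ i j : ℕ, a ^ i * b ^ j = 1 → 2 ^ m ∣ i ∧ 2 ^ m ∣ j := by
    intro i j h
    have hsame : ∀ c : V, orderOf c = 2 ^ m → ∀ l : ℕ, ¬ 2 ^ m ∣ l →
        c ^ 2 ^ (m - 1) ∈ Subgroup.zpowers (c ^ l) := by
      intro c hc' l hl
      obtain ⟨s, l', hl', rfl⟩ : ∃ s l', ¬ 2 ∣ l' ∧ l = 2 ^ s * l' := by
        have hl0 : l ≠ 0 := fun e => hl (e ▸ dvd_zero _)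
        exact ⟨_, _, Nat.not_dvd_ordCompl Nat.prime_two hl0,
          (Nat.ordProj_mul_ordCompl_eq_self l 2).symm⟩
      have hs : s < m := by
        by_contra hs
        exact hl ((pow_dvd_pow 2 (not_lt.1 hs)).trans (dvd_mul_right _ _))
      have h1 : Subgroup.zpowers (c ^ (2 ^ s * l')) = Subgroup.zpowers (c ^ 2 ^ s) := by
        rw [pow_mul]
        refine le_antisymm (Subgroup.zpowers_le.2 (Subgroup.npow_mem_zpowers _ _)) ?_
        refine Subgroup.zpowers_le.2 ?_
        have hcop : Nat.Coprime l' (orderOf (c ^ 2 ^ s)) := by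
          refine Nat.Coprime.coprime_dvd_right (orderOf_pow_dvd _) ?_
          rw [hc']
          exact Nat.Coprime.pow_right _ ((Nat.prime_two.coprime_iff_not_dvd.2 hl').symm)
        obtain ⟨q, hq⟩ := exists_pow_eq_self_of_coprime hcop
        exact ⟨q, by show ((c ^ 2 ^ s) ^ l') ^ (q : ℤ) = c ^ 2 ^ s; rw [zpow_natCast]; exact hq⟩
      rw [h1]
      refine ⟨((2 : ℤ) ^ (m - 1 - s)), ?_⟩
      show (c ^ 2 ^ s) ^ ((2 : ℤ) ^ (m - 1 - s)) = _
      rw [show ((2 : ℤ) ^ (m - 1 - s)) = ((2 ^ (m - 1 - s) : ℕ) : ℤ) by norm_num, zpow_natCast,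
        ← pow_mul, ← pow_add, show s + (m - 1 - s) = m - 1 by omega]
    have hi : 2 ^ m ∣ i := by
      by_contra hi
      have hj : ¬ 2 ^ m ∣ j := fun hj => hi (by
        have hbj : b ^ j = 1 := orderOf_dvd_iff_pow_eq_one.1 (by rw [hbo]; exact hj)
        rw [hbj, mul_one] at h
        have := orderOf_dvd_of_pow_eq_one h
        rwa [ha'] at this)
      have h1 : t ∈ Subgroup.zpowers (a ^ i) := hsame a ha' i hi
      have h2 : (α : MulAut V) t ∈ Subgroup.zpowers (b ^ j) := by
        rw [ht, map_pow]; exact hsame b hbo j hj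
      have e : b ^ j = (a ^ i)⁻¹ := eq_inv_of_mul_eq_one_right h
      rw [e, Subgroup.zpowers_inv] at h2
      -- a cyclic group has one involution
      have hat : ∀ w ∈ Subgroup.zpowers (a ^ i), orderOf w = 2 → w = t := by
        intro w hw hw2
        obtain ⟨z, hz⟩ := Subgroup.mem_zpowers_iff.1
          ((Subgroup.zpowers_le.2 (Subgroup.npow_mem_zpowers a i)) hw)
        have hw' : a ^ (z * 2) = 1 := by
          rw [zpow_mul, hz, zpow_two]
          rw [← pow_two, ← hw2, pow_orderOf_eq_one]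
        have hd := orderOf_dvd_iff_zpow_eq_one.2 hw'
        rw [ha'] at hd
        have hd' : ((2 ^ (m - 1) : ℕ) : ℤ) ∣ z := by
          rw [show (2 : ℕ) ^ m = 2 ^ (m - 1) * 2 by
            rw [← pow_succ, show m - 1 + 1 = m by omega]] at hd
          push_cast at hd ⊢
          exact Int.dvd_of_mul_dvd_mul_right (by norm_num) hd
        obtain ⟨q, rfl⟩ := hd'
        rw [zpow_mul, zpow_natCast, ← ht] at hz
        rcases Int.even_or_odd q with ⟨r, rfl⟩ | ⟨r, rfl⟩
        · rw [← two_mul, zpow_mul, zpow_two, ← pow_two, ← hto, pow_orderOf_eq_one, one_zpow] at hz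
          rw [← hz, orderOf_one] at hw2
          omega
        · rw [zpow_add, zpow_one, zpow_mul, zpow_two, ← pow_two, ← hto, pow_orderOf_eq_one,
            one_zpow, one_mul] at hz
          exact hz.symm
      exact hne (hat _ h2 (by rw [MulEquiv.orderOf_eq, hto]))
    refine ⟨hi, ?_⟩
    have hai : a ^ i = 1 := orderOf_dvd_iff_pow_eq_one.1 (by rw [ha']; exact hi)
    rw [hai, one_mul] at h
    have := orderOf_dvd_of_pow_eq_one h
    rwa [hbo] at this
  haveI : NeZero (2 ^ m) := ⟨by positivity⟩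
  let f : Multiplicative (ZMod (2 ^ m) × ZMod (2 ^ m)) →* V :=
    MonoidHom.mk' (fun p => a ^ (Multiplicative.toAdd p).1.val * b ^ (Multiplicative.toAdd p).2.val)
      fun p q => by
        show a ^ ((Multiplicative.toAdd p).1 + (Multiplicative.toAdd q).1).val *
            b ^ ((Multiplicative.toAdd p).2 + (Multiplicative.toAdd q).2).val = _
        rw [ZMod.val_add, ZMod.val_add, ← pow_eq_pow_mod _ (hexp a), ← pow_eq_pow_mod _ (hexp b),
          pow_add, pow_add, mul_mul_mul_comm]
  have hinj : Function.Injective f := by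
    rw [injective_iff_map_eq_one]
    intro p hp
    obtain ⟨h1, h2⟩ := hdisj _ _ hp
    exact Multiplicative.toAdd.injective (Prod.ext
      ((ZMod.val_eq_zero _).1 (Nat.eq_zero_of_dvd_of_lt h1 (ZMod.val_lt _)))
      ((ZMod.val_eq_zero _).1 (Nat.eq_zero_of_dvd_of_lt h2 (ZMod.val_lt _))))
  refine ⟨m, hm1, ⟨(MulEquiv.ofBijective f (hinj.bijective_of_nat_card_le ?_)).symm⟩⟩
  rw [Nat.card_congr Multiplicative.toAdd, Nat.card_prod, Nat.card_zmod]
  have h := card_le_pow P m V le_rfl fun u hu => congrArg Subtype.val (hexp ⟨u, hu⟩)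
  rw [h4] at h
  refine h.trans (le_of_eq ?_)
  rw [← mul_pow]
  norm_num

end H25.AbPrime
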