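import Cfsg.Agent.H25.AbPrime.Basic
import Cfsg.Agent.H64.SEP.Basic
import Cfsg.Agent.H67.CAIdent
import Cfsg.Agent.S1230

/-!
Free automizer of odd prime order on an abelian Sylow 2-subgroup that is not normal: the strongly
embedded subgroup from the signalizer functor on the involutions, given the special strongly
embedded theorem (for S4568).
-/

set_option autoImplicit false
set_option linter.style.haveILetI false
set_option linter.unusedSectionVars false

open Cfsg

namespace H25.AbPrime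

universe u

variable {G : Type u} [Group G] [Fintype G] (P : Sylow 2 G) [hc : IsMulCommutative P]

local notation "C[" x "]" => (Subgroup.centralizer ({x} : Set _))
local notation "N_P" => (Subgroup.normalizer ((P : Subgroup G) : Set G))

/-- The subgroup generated by the odd cores of the centralisers of the involutions of `P`. -/
def sig : Subgroup G := ⨆ a : {a : G // a ∈ omega P ∧ a ≠ 1}, H85.AbTwo.th (a : G)

variable (hfree : ∀ u ∈ (P : Subgroup G), u ≠ 1 → H85.AbTwo.Reg (P : Subgroup G) u)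

include hfree

theorem th_le_sig {a : G} (ha : a ∈ omega P) (ha1 : a ≠ 1) : H85.AbTwo.th a ≤ sig P :=
  le_iSup (fun b : {a : G // a ∈ omega P ∧ a ≠ 1} => H85.AbTwo.th (b : G)) ⟨a, ha, ha1⟩

theorem normalizer_le_sig : N_P ≤ Subgroup.normalizer (sig P : Set G) := by
  have key : ∀ n ∈ N_P, ∀ k ∈ sig P, n * k * n⁻¹ ∈ sig P := by
    intro n hn k hk
    have hle : sig P ≤ (sig P).comap (MulAut.conj n).toMonoidHom := by
      refine iSup_le fun a k hk => ?_
      exact th_le_sig P hfree (conj_mem_omega P hn a.2.1)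
        (fun h => a.2.2 (conj_eq_one_iff.1 h))
        (H85.AbTwo.norm_th P hfree hn a.2.1.1 a.2.2 hk)
    exact hle hk
  intro n hn
  rw [Subgroup.mem_normalizer_iff]
  refine fun k => ⟨key n hn k, fun h => ?_⟩
  have := key n⁻¹ (inv_mem hn) _ h
  simpa [mul_assoc] using this

theorem sig_odd (h8 : 2 ^ 3 ≤ Nat.card (omega P)) : ¬ 2 ∣ Nat.card (sig P) := by
  haveI : Fact (Nat.Prime 2) := ⟨Nat.prime_two⟩
  have hθ : IsSolvableSignalizerFunctor 2 (omega P) (fun a => H85.AbTwo.th a) := by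
    refine ⟨⟨fun a _ _ => H85.AbTwo.th_le a, fun a _ _ => H85.AbTwo.th_odd a,
      fun a ha ha1 b hb k hk => ?_, fun a ha ha1 b hb hb1 k hk => ?_⟩,
      fun a _ _ => H16.FT.oddOrder ?_⟩
    · have h := H85.AbTwo.norm_th P hfree (Subgroup.le_normalizer hb.1) ha.1 ha1 hk
      rwa [comm_mem P hb.1 ha.1, mul_inv_cancel_right] at h
    · exact H85.AbTwo.mem_th P hb.1 (hfree b hb.1 hb1) hk.2 (H85.AbTwo.odd_of_mem_th hk.1)
    · exact Nat.not_even_iff_odd.1 fun he => H85.AbTwo.th_odd a (even_iff_two_dvd.1 he)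
  exact (H84.SFT.closure_of_complete hθ (fun h => by
    rw [h, Subgroup.card_bot] at h8; norm_num at h8)
    (H7.SFT.complete (elementary P) h8 hθ)).2.1

omit hfree

theorem card_autG_eq_relIndex :
    Nat.card (H20.autG (P : Subgroup G)) =
      (Subgroup.centralizer ((P : Subgroup G) : Set G)).relIndex N_P :=
  H20.card_autG _

theorem exists_conj_mem {t : G} (ht2 : orderOf t = 2) :
    ∃ (m : G) (u : G), u ∈ omega P ∧ u ≠ 1 ∧ m * u * m⁻¹ = t := by
  haveI : Fact (Nat.Prime 2) := ⟨Nat.prime_two⟩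
  obtain ⟨u, hu, hc'⟩ := H20.FreeSylow.exists_isConj_mem (P := P) (y := t) ⟨1, by rw [ht2, pow_one]⟩
  obtain ⟨m, hm⟩ := _root_.isConj_iff.1 hc'.symm
  have hu2 : orderOf u = 2 := by rw [← hm, H20.orderOf_conj'] at ht2; exact ht2
  exact ⟨m, u, mem_omega_of_two P hu hu2, fun h => by rw [h, orderOf_one] at hu2; omega, hm⟩

include hfree

/-- An odd prime automizer needs at least four elements of order at most two. -/
theorem four_le_omega (hne : (P : Subgroup G) ≠ ⊥)
    (he : (Nat.card (H20.autG (P : Subgroup G))).Prime) :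
    3 ≤ Nat.card (H20.autG (P : Subgroup G)) ∧ 4 ≤ Nat.card (omega P) := by
  haveI : Fact (Nat.Prime 2) := ⟨Nat.prime_two⟩
  have h3 : 3 ≤ Nat.card (H20.autG (P : Subgroup G)) := by
    have hodd : Odd (Nat.card (H20.autG (P : Subgroup G))) := by
      rw [card_autG_eq_relIndex]
      exact (H85.AbTwo.odd_index P).of_dvd_nat ((Subgroup.relIndex_dvd_of_le_left _
        (show (P : Subgroup G) ≤ Subgroup.centralizer ((P : Subgroup G) : Set G) from
          fun w hw v hv => comm_mem P hv hw)).trans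
        (Subgroup.relIndex_dvd_index_of_le Subgroup.le_normalizer))
    have h2 := he.two_le
    obtain ⟨k, hk⟩ := hodd
    omega
  refine ⟨h3, ?_⟩
  obtain ⟨x, hx, hx2⟩ : ∃ x ∈ (P : Subgroup G), orderOf x = 2 := by
    refine H65.exists_two_mem ?_
    obtain ⟨j, hj⟩ := IsPGroup.iff_card.1 P.2
    rcases j with _ | j
    · exact absurd (Subgroup.card_eq_one.1 (by simpa using hj)) hne
    · exact even_iff_two_dvd.2 (hj ▸ dvd_pow_self 2 (Nat.succ_ne_zero j))
  have := card_autG_lt P hfree x (mem_omega_of_two P hx hx2)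
    (fun h => by rw [h, orderOf_one] at hx2; omega)
  omega

/-- The free case with a non-normal Sylow subgroup. -/
theorem free_nonnormal (hO : pPrimeCore 2 G = ⊥) (hnn : ¬ (P : Subgroup G).Normal)
    (he : (Nat.card (H20.autG (P : Subgroup G))).Prime)
    (hgood : ∀ H W T : Subgroup G, H64.SEP.Setup G H W T → H64.SEP.Good H W T) :
    (∀ u ∈ (P : Subgroup G), u * u = 1) ∧
      Nat.card (P : Subgroup G) = Nat.card (H20.autG (P : Subgroup G)) + 1 ∧
      (Nat.card (P : Subgroup G) = 4 ∨ ∃ (F : Type) (_ : Field F) (_ : Fintype F),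
        Fintype.card F = Nat.card (P : Subgroup G) ∧
          Nonempty (G ≃* Matrix.ProjectiveSpecialLinearGroup (Fin 2) F)) := by
  classical
  haveI : Fact (Nat.Prime 2) := ⟨Nat.prime_two⟩
  have hne : (P : Subgroup G) ≠ ⊥ := fun h => hnn (by rw [h]; infer_instance)
  obtain ⟨h3, hT4⟩ := four_le_omega P hfree hne he
  have hodd_normal : ∀ N : Subgroup G, N.Normal → Odd (Nat.card N) → N = ⊥ := fun N hN hodd =>
    le_bot_iff.1 (hO ▸ (haveI := hN; H1.le_pPrimeCore (Nat.coprime_two_right.2 hodd)))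
  obtain ⟨j, hj⟩ := IsPGroup.iff_card.1 (P.2.to_le (omega_le P))
  obtain ⟨x, hx, hx1⟩ : ∃ x ∈ omega P, x ≠ 1 := by
    by_contra hcon
    push Not at hcon
    rw [(Subgroup.eq_bot_iff_forall _).2 hcon, Subgroup.card_bot] at hT4
    omega
  by_cases h8 : Nat.card (omega P) < 8
  · -- rank two
    have h4 : Nat.card (omega P) = 4 := by
      have hj3 : j < 3 := by
        by_contra hcon
        have := Nat.pow_le_pow_right (two_pos) (not_lt.1 hcon)
        omega
      interval_cases j <;> omega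
    obtain ⟨m, hm1, ⟨f⟩⟩ := homocyclic_of_four P hfree h4 (by omega)
    rcases Nat.lt_or_ge m 2 with hm | hm
    · obtain rfl : m = 1 := by omega
      have hP4 : Nat.card (P : Subgroup G) = 4 := by
        rw [Nat.card_congr f.toEquiv, Nat.card_congr Multiplicative.toAdd, Nat.card_prod,
          Nat.card_zmod]
        norm_num
      have hlt := card_autG_lt P hfree x hx hx1
      have heq : omega P = (P : Subgroup G) :=
        Subgroup.eq_of_le_of_card_ge (omega_le P) (by omega)
      exact ⟨fun u hu => (heq ▸ hu : u ∈ omega P).2, by omega, Or.inl hP4⟩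
    · exact absurd (H20.Homocyclic.brauer P hm f hodd_normal).1 hnn
  -- rank at least three
  have h8' : 2 ^ 3 ≤ Nat.card (omega P) := by omega
  set W := sig P with hWdef
  have hWodd := sig_odd P hfree h8'
  have hNW : N_P ≤ Subgroup.normalizer (W : Set G) := normalizer_le_sig P hfree
  set H := N_P ⊔ W with hH
  have hNH : N_P ≤ H := le_sup_left
  have hWH : W ≤ H := le_sup_right
  have htop : H ≠ ⊤ := by
    intro htop
    have hn : W.Normal := by
      rw [← Subgroup.normalizer_eq_top_iff, eq_top_iff, ← htop]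
      exact sup_le hNW Subgroup.le_normalizer
    have hbot : W = ⊥ := hodd_normal W hn
      (Nat.not_even_iff_odd.1 fun h => hWodd (even_iff_two_dvd.1 h))
    rw [hH, hbot, sup_bot_eq] at htop
    exact hnn (Subgroup.normalizer_eq_top_iff.1 htop)
  have hPH : (P : Subgroup G) ≤ H := Subgroup.le_normalizer.trans hNH
  have hprod : ∀ h ∈ H, ∃ n ∈ N_P, ∃ w ∈ W, h = n * w := by
    intro h hh
    rw [hH, ← SetLike.mem_coe, Subgroup.coe_mul_of_left_le_normalizer_right _ _ hNW] at hh
    obtain ⟨n, hn, w, hw, rfl⟩ := hh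
    exact ⟨n, hn, w, hw, rfl⟩
  have hWc : ∀ h ∈ H, ∀ w ∈ W, h * w * h⁻¹ ∈ W := fun h hh w hw =>
    (Subgroup.mem_normalizer_iff.1 (sup_le hNW Subgroup.le_normalizer hh) w).1 hw
  have hinto : ∀ t ∈ H, orderOf t = 2 → ∃ m ∈ H, ∃ u ∈ omega P, u ≠ 1 ∧ m * u * m⁻¹ = t := by
    intro t ht ht2
    obtain ⟨u, hu, hc'⟩ := H20.FreeSylow.exists_isConj_mem (P := P.subtype hPH) (y := (⟨t, ht⟩ : H))
      ⟨1, by rw [Subgroup.orderOf_mk, ht2, pow_one]⟩
    obtain ⟨m, hm⟩ := _root_.isConj_iff.1 hc'.symm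
    have e : (m : G) * (u : G) * (m : G)⁻¹ = t := congrArg Subtype.val hm
    have hu2 : orderOf (u : G) = 2 := by rw [← e, H20.orderOf_conj'] at ht2; exact ht2
    exact ⟨m, m.2, u, mem_omega_of_two P hu hu2, fun h => by rw [h, orderOf_one] at hu2; omega, e⟩
  have hCH : ∀ u ∈ omega P, u ≠ 1 → C[u] ≤ H := by
    intro u hu hu1 c hcu
    obtain ⟨k, hk, q, hq, rfl⟩ := H85.AbTwo.th_factor P hu.1 (hfree u hu.1 hu1) hcu
    exact mul_mem (hWH (th_le_sig P hfree hu hu1 hk)) (hPH hq)
  have heven : Even (Nat.card H) := H65.even_card_of_mem (hPH hx.1) (orderOf_two P hx hx1)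
  have hse : IsStronglyEmbedded H := by
    refine (H65.se_iff_fusion htop heven).2 ⟨fun t ht ht2 => ?_, fun t ht s hs ht2 hs2 hts => ?_⟩
    · obtain ⟨m, hm, u, hu, hu1, rfl⟩ := hinto t ht ht2
      intro g hg
      have h1 : m⁻¹ * g * m ∈ C[u] := by
        rw [H85.AbTwo.mem_cent_iff]
        have := H85.AbTwo.mem_cent_iff.1 hg
        calc m⁻¹ * g * m * u = m⁻¹ * (g * (m * u * m⁻¹)) * m := by group
          _ = m⁻¹ * ((m * u * m⁻¹) * g) * m := by rw [this]
          _ = _ := by group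
      have := mul_mem (mul_mem hm (hCH u hu hu1 h1)) (inv_mem hm)
      simpa [mul_assoc] using this
    · obtain ⟨m, hm, u, hu, -, rfl⟩ := hinto t ht ht2
      obtain ⟨m', hm', v, hv, -, rfl⟩ := hinto s hs hs2
      have huv : IsConj u v :=
        ((_root_.isConj_iff.2 ⟨m, rfl⟩ : IsConj u (m * u * m⁻¹)).trans hts).trans
          (_root_.isConj_iff.2 ⟨m', rfl⟩ : IsConj v (m' * v * m'⁻¹)).symm
      obtain ⟨n, hn, hnu⟩ := H85.AbTwo.exists_norm P hu.1 hv.1 huv
      refine ⟨m' * n * m⁻¹, mul_mem (mul_mem hm' (hNH hn)) (inv_mem hm), ?_⟩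
      rw [← hnu]; group
  have hcardT : Nat.card (H20.autG (P : Subgroup G)) + 1 = Nat.card (omega P) :=
    card_autG_eq P hfree hx hx1 fun u hu hu1 =>
      H67.se_isConj hse (orderOf_two P hx hx1) (orderOf_two P hu hu1)
  have hTW : ∀ s ∈ omega P, s ∈ W → s = 1 := fun s hs hsW =>
    orderOf_eq_one_iff.1 (Nat.eq_one_of_dvd_coprimes (Nat.prime_two.coprime_iff_not_dvd.2 hWodd)
      (orderOf_dvd_of_pow_eq_one (by rw [pow_two]; exact hs.2))
      (Subgroup.orderOf_dvd_natCard _ hsW))
  -- conjugation modulo `W`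
  have hmod : ∀ n ∈ N_P, ∀ w ∈ W, ∀ s ∈ omega P,
      ((n * w) * s * (n * w)⁻¹ * s ∈ W ↔ n * s * n⁻¹ = s) := by
    intro n hn w hw s hs
    have hv : n * (w * (s * w⁻¹ * s⁻¹)) * n⁻¹ ∈ W :=
      hWc n (hNH hn) _ (mul_mem hw (hWc s (hPH hs.1) _ (inv_mem hw)))
    have e : (n * w) * s * (n * w)⁻¹ * s =
        (n * (w * (s * w⁻¹ * s⁻¹)) * n⁻¹) * (n * s * n⁻¹ * s) := by group
    rw [e, Subgroup.mul_mem_cancel_left _ hv]
    constructor
    · intro h
      have h1 := hTW _ (mul_mem (conj_mem_omega P hn hs) hs) h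
      rw [eq_inv_of_mul_eq_one_left h1, inv_eq_of_mul_eq_one_right hs.2]
    · intro h
      rw [h, hs.2]
      exact one_mem _
  have hcent : ∀ n ∈ N_P, ∀ s ∈ omega P, s ≠ 1 → n * s * n⁻¹ = s → ∀ r ∈ omega P,
      n * r * n⁻¹ = r := fun n hn s hs hs1 h r hr => by
    rw [← (hfree s hs.1 hs1 n hn h) r hr.1, mul_inv_cancel_right]
  have hS : H64.SEP.Setup G H W (omega P) :=
    { se := hse
      W_le := hWH
      W_conj := hWc
      W_odd := Nat.not_even_iff_odd.1 fun h => hWodd (even_iff_two_dvd.1 h)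
      T_le := (omega_le P).trans hPH
      T_sq := fun s hs => hs.2
      four_le := hT4
      prime := by rw [← hcardT, Nat.add_sub_cancel]; exact he
      invol := fun i hi hi2 => by
        obtain ⟨m, hm, u, hu, -, rfl⟩ := hinto i hi hi2
        obtain ⟨n, hn, w, hw, rfl⟩ := hprod m hm
        refine ⟨n * u * n⁻¹, conj_mem_omega P hn hu, ?_⟩
        have hv : n * (w * (u * w⁻¹ * u⁻¹)) * n⁻¹ ∈ W :=
          hWc n (hNH hn) _ (mul_mem hw (hWc u (hPH hu.1) _ (inv_mem hw)))
        rw [inv_eq_of_mul_eq_one_right hu.2] at hv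
        rwa [show n * w * u * (n * w)⁻¹ * (n * u * n⁻¹) =
          n * (w * (u * w⁻¹ * u)) * n⁻¹ by group]
      act := fun h hh t ht ht1 hmem => by
        obtain ⟨n, hn, w, hw, rfl⟩ := hprod h hh
        intro s hs
        exact (hmod n hn w hw s hs).2
          (hcent n hn t ht ht1 ((hmod n hn w hw t ht).1 hmem) s hs)
      odd_act := fun h hh hodd htriv => by
        obtain ⟨n, hn, w, hw, rfl⟩ := hprod h hh
        have hnx : n * x * n⁻¹ = x := (hmod n hn w hw x hx).1 (htriv x hx)
        obtain ⟨k, hk, q, hq, rfl⟩ := H85.AbTwo.th_factor P hx.1 (hfree x hx.1 hx1)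
          (H85.AbTwo.mem_cent_iff.2 (H85.AbTwo.conj_eq_iff.1 hnx))
        have hkW : k ∈ W := th_le_sig P hfree hx hx1 hk
        have hq' : q⁻¹ * k * q * w ∈ W := by
          refine mul_mem ?_ hw
          have := hWc q⁻¹ (inv_mem (hPH hq)) k hkW
          rwa [inv_inv] at this
        have e : k * q * w = q * (q⁻¹ * k * q * w) := by group
        rw [e] at hodd ⊢
        set v := q⁻¹ * k * q * w
        have hpow : ∀ i : ℕ, ∃ v' ∈ W, (q * v) ^ i = q ^ i * v' := by
          intro i
          induction i with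
          | zero => exact ⟨1, one_mem _, by simp⟩
          | succ i ih =>
            obtain ⟨v', hv', hi⟩ := ih
            refine ⟨q⁻¹ * v' * q * v, mul_mem ?_ hq', ?_⟩
            · have := hWc q⁻¹ (inv_mem (hPH hq)) v' hv'
              rwa [inv_inv] at this
            · rw [pow_succ, hi, pow_succ]; group
        obtain ⟨v', hv', hi⟩ := hpow (orderOf (q * v))
        rw [pow_orderOf_eq_one] at hi
        have hqW : q ^ orderOf (q * v) ∈ W := by
          rw [eq_inv_of_mul_eq_one_left hi.symm]; exact inv_mem hv'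
        obtain ⟨l, hl⟩ := H85.AbTwo.orderOf_pow_mem P hq
        have hqo : q ^ orderOf (q * v) = 1 := orderOf_eq_one_iff.1
          (Nat.eq_one_of_dvd_coprimes
            (Nat.Coprime.pow_left l (Nat.prime_two.coprime_iff_not_dvd.2 hWodd))
            (hl ▸ orderOf_pow_dvd _) (Subgroup.orderOf_dvd_natCard _ hqW))
        have hq1 : q = 1 := orderOf_eq_one_iff.1
          (Nat.eq_one_of_dvd_coprimes (Nat.Coprime.pow_left l (Nat.coprime_two_left.2 hodd))
            (hl ▸ dvd_rfl) (orderOf_dvd_of_pow_eq_one hqo))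
        rw [hq1, one_mul]
        exact hq'
      two_comm := fun Q _ hQ a ha b hb => by
        obtain ⟨c, hcQ⟩ := hQ.exists_le_sylow
        obtain ⟨g, hg⟩ := MulAction.exists_smul_eq G c P
        have hmemP : ∀ v ∈ Q, g * v * g⁻¹ ∈ (P : Subgroup G) := by
          intro v hv
          have h : (P : Subgroup G) = (c : Subgroup G).map (MulAut.conj g).toMonoidHom := by
            rw [← hg]; rfl
          rw [h]
          exact ⟨v, hcQ hv, rfl⟩
        have := comm_mem P (hmemP a ha) (hmemP b hb)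
        rw [_root_.conj_mul, _root_.conj_mul, mul_left_inj, mul_right_inj] at this
        exact this }
  obtain ⟨hcore, hTriv⟩ := hgood H W (omega P) hS
  have hK : H.normalCore = ⊥ := by
    refine hodd_normal _ inferInstance (Nat.not_even_iff_odd.1 fun hev => htop ?_)
    obtain ⟨y, hy, hy2⟩ := H65.exists_two_mem hev
    refine eq_top_iff.2 fun g _ => H65.se_conj_mem hse hy2 (H.normalCore_le hy) ?_
    have := (inferInstance : H.normalCore.Normal).conj_mem y hy g⁻¹
    rw [inv_inv] at this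
    exact H.normalCore_le this
  have hWbot : W = ⊥ := le_bot_iff.1 (hK ▸ hcore)
  have hPT : (P : Subgroup G) = omega P := by
    refine le_antisymm (fun v hv => ?_) (omega_le P)
    have := hTriv v (hPH hv) fun s hs => by
      rw [comm_mem P hv hs.1, mul_inv_cancel_right, hs.2]
      exact one_mem _
    rwa [hWbot, bot_sup_eq] at this
  have hsq : ∀ u ∈ (P : Subgroup G), u * u = 1 := fun u hu => (hPT ▸ hu : u ∈ omega P).2
  have hPcard : Nat.card (P : Subgroup G) = Nat.card (omega P) := by rw [← hPT]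
  have hP8 : 8 ≤ Nat.card (P : Subgroup G) := by omega
  refine ⟨hsq, by omega, Or.inr ?_⟩
  -- centralisers of involutions are conjugate into `P`
  have hCP : ∀ t : G, orderOf t = 2 →
      ∃ m : G, ∀ c ∈ C[t], m⁻¹ * c * m ∈ (P : Subgroup G) := by
    intro t ht
    obtain ⟨m, u, hu, hu1, rfl⟩ := exists_conj_mem P ht
    refine ⟨m, fun c hc' => ?_⟩
    have h1 : m⁻¹ * c * m ∈ C[u] := by
      rw [H85.AbTwo.mem_cent_iff]
      have := H85.AbTwo.mem_cent_iff.1 hc'
      calc m⁻¹ * c * m * u = m⁻¹ * (c * (m * u * m⁻¹)) * m := by group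
        _ = m⁻¹ * ((m * u * m⁻¹) * c) * m := by rw [this]
        _ = _ := by group
    obtain ⟨k, hk, q, hq, hkq⟩ := H85.AbTwo.th_factor P hu.1 (hfree u hu.1 hu1) h1
    have hkW : k ∈ W := th_le_sig P hfree hu hu1 hk
    rw [hWbot, Subgroup.mem_bot] at hkW
    rw [← hkq, hkW, one_mul]
    exact hq
  refine Cfsg.Agent.S1230.result P (fun hcyc => ?_) hnn fun t ht => ?_
  · have h1 := IsCyclic.exponent_eq_card (α := (P : Subgroup G))
    have h2 : Monoid.exponent (P : Subgroup G) ∣ 2 :=
      Monoid.exponent_dvd_of_forall_pow_eq_one fun u =>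
        Subtype.ext (by rw [Subgroup.coe_pow, pow_two]; exact hsq u u.2)
    rw [h1] at h2
    have := Nat.le_of_dvd two_pos h2
    omega
  · obtain ⟨m, hm⟩ := hCP t ht
    refine ⟨⟨⟨fun a b => Subtype.ext ?_⟩⟩, fun c hc' => ?_⟩
    · have := comm_mem P (hm a a.2) (hm b b.2)
      calc (a : G) * b = m * ((m⁻¹ * a * m) * (m⁻¹ * b * m)) * m⁻¹ := by group
        _ = m * ((m⁻¹ * b * m) * (m⁻¹ * a * m)) * m⁻¹ := by rw [this]
        _ = (b : G) * a := by group
    · have := hsq _ (hm c hc')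
      calc c ^ 2 = m * ((m⁻¹ * c * m) * (m⁻¹ * c * m)) * m⁻¹ := by rw [pow_two]; group
        _ = 1 := by rw [this, mul_one, mul_inv_cancel]

end H25.AbPrime
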