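import Cfsg.Agent.H85.AbTwo.Classes
import Cfsg.Agent.H25.AbPrime.Basic

/-!
The number of principal characters for an abelian Sylow 2-subgroup whose automizer acts freely
outside a central subgroup (for S4568).
-/

set_option autoImplicit false
set_option linter.style.haveILetI false
set_option linter.unusedSectionVars false

open Cfsg Finset

namespace H25.AbPrime

universe u

variable {G : Type u} [Group G] [Fintype G] {M : Ideal AlgInt} [hMp : M.IsPrime]

local notation "C[" x "]" => (Subgroup.centralizer ({x} : Set _))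

variable (P : Sylow 2 G) [hc : IsMulCommutative P]

/-- A central element has the rank of the whole group. -/
theorem rank_of_center {z : G} (hz : z ∈ Subgroup.center G) :
    blockRank 2 (principalBlock M C[z]) = blockRank 2 (principalBlock M G) := by
  haveI : Fact (Nat.Prime 2) := ⟨Nat.prime_two⟩
  have e : C[z] = ⊤ := eq_top_iff.2 fun g _ =>
    H85.AbTwo.mem_cent_iff.2 (Subgroup.mem_center_iff.1 hz g)
  haveI : Fintype C[z] := Fintype.ofFinite _
  exact H22.Klein.blockRank_principal_congr
    ((MulEquiv.subgroupCongr e).trans Subgroup.topEquiv)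

/-- The count: one section of full rank for each element of `Z`, and one of rank one for each
orbit of the automizer outside `Z`. -/
theorem card_principal_eq (hM : IsPModular 2 M) (Z : Subgroup G) (hZP : Z ≤ (P : Subgroup G))
    (hZc : Z ≤ Subgroup.center G)
    (hreg : ∀ u ∈ (P : Subgroup G), u ∉ Z → H85.AbTwo.Reg (P : Subgroup G) u) :
    ∃ n : ℕ, Nat.card (principalBlock M G) =
        Nat.card Z * blockRank 2 (principalBlock M G) + n ∧
      n * Nat.card (H20.autG (P : Subgroup G)) + Nat.card Z = Nat.card (P : Subgroup G) := by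
  classical
  haveI : Fact (Nat.Prime 2) := ⟨Nat.prime_two⟩
  obtain ⟨X, -, hX⟩ := H85.AbTwo.exists_isReps P ∅ (by simp) (by simp)
  have heq : ∀ z ∈ Z, ∀ v : G, IsConj z v → z = v := fun z hz v h => by
    obtain ⟨g, rfl⟩ := _root_.isConj_iff.1 h
    rw [Subgroup.mem_center_iff.1 (hZc hz) g, mul_inv_cancel_right]
  have hZX : (X.filter fun x => x ∈ Z) = Finset.univ.filter fun z : G => z ∈ Z := by
    ext z
    simp only [mem_filter, mem_univ, true_and]
    refine ⟨fun h => h.2, fun hz => ⟨?_, hz⟩⟩
    obtain ⟨x, ⟨hx, hzx⟩, -⟩ := hX.2 z (hZP hz)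
    rwa [heq z hz x hzx]
  have hA : (X.filter fun x => x ∈ Z).card = Nat.card Z := by
    rw [hZX, Nat.card_eq_fintype_card, Fintype.card_subtype]
  set B := X.filter fun x => x ∉ Z with hBdef
  refine ⟨B.card, ?_, ?_⟩
  · rw [H85.AbTwo.card_eq_sum_reps P hM hX,
      ← sum_filter_add_sum_filter_not X (fun x => x ∈ Z),
      sum_congr rfl (fun x hx => rank_of_center (M := M) (hZc (mem_filter.1 hx).2)),
      sum_congr rfl (fun x hx => H85.AbTwo.rank_of_reg P hM (hX.1 x (mem_filter.1 hx).1)
        (hreg x (hX.1 x (mem_filter.1 hx).1) (mem_filter.1 hx).2) :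
        ∀ x ∈ X.filter (fun x => ¬ x ∈ Z), _ = 1),
      sum_const, sum_const, smul_eq_mul, smul_eq_mul, mul_one, hA]
  · -- the orbits outside `Z` are regular
    set A := H20.autG (P : Subgroup G)
    haveI : Fintype A := Fintype.ofFinite _
    let O := {w : (P : Subgroup G) // (w : G) ∉ Z}
    have hmem : ∀ (a : A) (x : B), (((a : MulAut (P : Subgroup G))
        ⟨(x : G), hX.1 _ (mem_filter.1 x.2).1⟩ : (P : Subgroup G)) : G) ∉ Z := fun a x h => by
      have h1 := H20.isConj_autG a ⟨(x : G), hX.1 _ (mem_filter.1 x.2).1⟩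
      exact (mem_filter.1 x.2).2 (by
        have h2 := heq _ h _ (by first | exact h1 | exact h1.symm)
        rw [← h2]; exact h)
    let φ : A × B → O := fun q =>
      ⟨(q.1 : MulAut (P : Subgroup G)) ⟨(q.2 : G), hX.1 _ (mem_filter.1 q.2.2).1⟩, hmem q.1 q.2⟩
    have hφ : Function.Bijective φ := by
      constructor
      · rintro ⟨a, x⟩ ⟨b, y⟩ h
        have h' : (a : MulAut (P : Subgroup G)) ⟨(x : G), hX.1 _ (mem_filter.1 x.2).1⟩ =
            (b : MulAut (P : Subgroup G)) ⟨(y : G), hX.1 _ (mem_filter.1 y.2).1⟩ :=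
          congrArg Subtype.val h
        obtain ⟨⟨n, hn⟩, hna⟩ := MonoidHom.mem_range.1 (b⁻¹ * a : A).2
        have h2 : n * (x : G) * n⁻¹ = y := by
          have e := congrArg Subtype.val (DFunLike.congr_fun hna
            ⟨(x : G), hX.1 _ (mem_filter.1 x.2).1⟩)
          rw [show n * (x : G) * n⁻¹ = _ from e, Subgroup.coe_mul, MulAut.mul_apply, h',
            Subgroup.coe_inv, MulAut.inv_apply_self]
        have hxy : x = y := Subtype.ext (H85.AbTwo.reps_eq P hX (mem_filter.1 x.2).1
          (mem_filter.1 y.2).1 (_root_.isConj_iff.2 ⟨n, h2⟩))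
        subst hxy
        have hcn := hreg x (hX.1 _ (mem_filter.1 x.2).1) (mem_filter.1 x.2).2 n hn h2
        have hab : b⁻¹ * a = 1 := by
          refine Subtype.ext ?_
          rw [← hna]
          refine MulEquiv.ext fun w => Subtype.ext ?_
          show n * (w : G) * n⁻¹ = w
          rw [← hcn w w.2, mul_inv_cancel_right]
        exact Prod.ext (inv_mul_eq_one.1 hab).symm rfl
      · rintro ⟨w, hw⟩
        obtain ⟨x, ⟨hx, hwx⟩, -⟩ := hX.2 w w.2
        have hxZ : x ∉ Z := fun h => hw (by
          rw [← heq x h w hwx.symm]; exact h)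
        obtain ⟨n, hn, hnx⟩ := H85.AbTwo.exists_norm P (hX.1 x hx) w.2 hwx.symm
        refine ⟨(⟨_, ⟨⟨n, hn⟩, rfl⟩⟩, ⟨x, mem_filter.2 ⟨hx, hxZ⟩⟩), Subtype.ext (Subtype.ext ?_)⟩
        exact hnx
    have hcardO : Nat.card O + Nat.card Z = Nat.card (P : Subgroup G) := by
      haveI : Fintype (P : Subgroup G) := Fintype.ofFinite _
      have h1 : Fintype.card {w : (P : Subgroup G) // (w : G) ∈ Z} = Nat.card Z := by
        rw [← Nat.card_eq_fintype_card]
        exact Nat.card_congr (Subgroup.subgroupOfEquivOfLe hZP).toEquiv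
      have h2 := Fintype.card_subtype_compl (fun w : (P : Subgroup G) => (w : G) ∈ Z)
      have h3 := Fintype.card_subtype_le (fun w : (P : Subgroup G) => (w : G) ∈ Z)
      show Nat.card {w : (P : Subgroup G) // ¬ (w : G) ∈ Z} + _ = _
      rw [Nat.card_eq_fintype_card (α := {w : (P : Subgroup G) // ¬ (w : G) ∈ Z}),
        Nat.card_eq_fintype_card (α := (P : Subgroup G)), h2, ← h1]
      omega
    rw [← hcardO, ← Nat.card_eq_of_bijective φ hφ, Nat.card_prod, Nat.card_eq_fintype_card (α := B),
      Fintype.card_coe, mul_comm]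

end H25.AbPrime
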