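import Cfsg.Agent.H25.AbPrime.Consumer
import Cfsg.Agent.H25.AbPrime.Count
import Cfsg.Agent.H85.AbTwo.Free
import Cfsg.Agent.H20.BlockApps
import Cfsg.Agent.H10.PSolvable

/-!
The principal block for a free automizer of odd prime order on an abelian Sylow 2-subgroup,
trivial odd core (for S4568).
-/

set_option autoImplicit false
set_option linter.style.haveILetI false
set_option linter.unusedSectionVars false

open Cfsg Finset

namespace H25.AbPrime

universe u

variable {G : Type u} [Group G] [Fintype G] {M : Ideal AlgInt} [hMp : M.IsPrime]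

local notation "C[" x "]" => (Subgroup.centralizer ({x} : Set _))

variable (P : Sylow 2 G) [hc : IsMulCommutative P]

theorem le_cent_self :
    (P : Subgroup G) ≤ Subgroup.centralizer ((P : Subgroup G) : Set G) :=
  fun _ hw _ hv => comm_mem P hv hw

/-- A normal abelian Sylow subgroup without odd core is self-centralising. -/
theorem cent_eq_of_normal (hO : pPrimeCore 2 G = ⊥) [hn : (P : Subgroup G).Normal] :
    Subgroup.centralizer ((P : Subgroup G) : Set G) = (P : Subgroup G) := by
  refine H20.Homocyclic.centralizer_eq P (fun a ha b hb => comm_mem P ha hb) fun N hN hodd => ?_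
  haveI := hN
  exact le_bot_iff.1 (hO ▸ H1.le_pPrimeCore (Nat.coprime_two_right.2 hodd))

theorem isSolvable_of_normal [hn : (P : Subgroup G).Normal] : Group.IsSolvable G := by
  haveI : Fact (Nat.Prime 2) := ⟨Nat.prime_two⟩
  haveI : Group.IsSolvable (G ⧸ (P : Subgroup G)) := H16.FT.oddOrder (by
    rw [← Subgroup.index_eq_card]; exact H85.AbTwo.odd_index P)
  haveI : Group.IsNilpotent (P : Subgroup G) := P.2.isNilpotent
  exact Group.isSolvable_of_ker_le_range (P : Subgroup G).subtype
    (QuotientGroup.mk' (P : Subgroup G))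
    (by rw [QuotientGroup.ker_mk', Subgroup.range_subtype])

/-- The normal case: `e` Brauer characters. -/
theorem rank_normal (hM : IsPModular 2 M) (hO : pPrimeCore 2 G = ⊥)
    [hn : (P : Subgroup G).Normal] (he : (Nat.card (H20.autG (P : Subgroup G))).Prime) :
    blockRank 2 (principalBlock M G) = Nat.card (H20.autG (P : Subgroup G)) := by
  classical
  haveI : Fact (Nat.Prime 2) := ⟨Nat.prime_two⟩
  set e := Nat.card (H20.autG (P : Subgroup G)) with hedef
  haveI : Fact e.Prime := ⟨he⟩
  have hidx : (P : Subgroup G).index = e := by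
    rw [hedef, card_autG_eq_relIndex, cent_eq_of_normal P hO, Subgroup.normalizer_eq_top,
      Subgroup.relIndex_top_right]
  have hcard : Nat.card (P : Subgroup G) * e = Nat.card G := by
    rw [← hidx, Subgroup.card_mul_index]
  have he2 : e ≠ 2 := fun h => by
    have := H85.AbTwo.odd_index P
    rw [hidx, h] at this
    exact absurd this (by decide)
  have hPe : Nat.Coprime (Nat.card (P : Subgroup G)) e := by
    obtain ⟨j, hj⟩ := IsPGroup.iff_card.1 P.2
    rw [hj]
    exact Nat.Coprime.pow_left _ ((Nat.coprime_primes Nat.prime_two he).2 (Ne.symm he2))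
  obtain ⟨c, hc'⟩ := exists_prime_orderOf_dvd_card' e (G := G) ⟨_, hcard.symm.trans (mul_comm _ _)⟩
  set E := Subgroup.zpowers c with hEdef
  haveI : Fintype E := Fintype.ofFinite _
  have hEc : Nat.card E = e := by rw [hEdef, Nat.card_zpowers, hc']
  have hreg : ∀ g : G, ¬ 2 ∣ orderOf g → g ≠ 1 → ∃ m : G, m * g * m⁻¹ ∈ E := by
    intro g hg hg1
    have h1 : orderOf g ∣ e := by
      obtain ⟨j, hj⟩ := IsPGroup.iff_card.1 P.2
      refine Nat.Coprime.dvd_of_dvd_mul_left ?_ (hcard ▸ orderOf_dvd_natCard g)
      rw [hj]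
      exact Nat.Coprime.pow_right _ ((Nat.prime_two.coprime_iff_not_dvd.2 hg).symm)
    have h2 : orderOf g = e := (he.eq_one_or_self_of_dvd _ h1).resolve_left
      fun h => hg1 (orderOf_eq_one_iff.1 h)
    have hfac : e ^ (Nat.card G).factorization e = e := by
      rw [← hcard, Nat.factorization_mul Nat.card_pos.ne' he.ne_zero, Finsupp.add_apply,
        he.factorization_self, Nat.factorization_eq_zero_of_not_dvd (fun h =>
          he.ne_one (Nat.Coprime.eq_one_of_dvd hPe.symm h)), zero_add, pow_one]
    let S : Sylow e G := Sylow.ofCard E (by rw [hEc, hfac])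
    let S' : Sylow e G := Sylow.ofCard (Subgroup.zpowers g) (by rw [Nat.card_zpowers, h2, hfac])
    obtain ⟨m, hm⟩ := MulAction.exists_smul_eq G S' S
    refine ⟨m, ?_⟩
    have h : E = (Subgroup.zpowers g).map (MulAut.conj m).toMonoidHom := by
      rw [show E = (S : Subgroup G) from rfl, ← hm]; rfl
    rw [h]
    exact ⟨g, Subgroup.mem_zpowers g, rfl⟩
  refine le_antisymm ?_ ?_
  · -- restriction to `E` is injective
    let Sp := Submodule.span ℂ
      ((fun χ : IrrCharacter G => pRegularPart 2 (χ : G → ℂ)) '' principalBlock M G)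
    have hprop : ∀ f ∈ Sp, IsClassFunction G f ∧ ∀ g, 2 ∣ orderOf g → f g = 0 := by
      intro f hf
      refine Submodule.span_induction ?_ ?_ ?_ ?_ hf
      · rintro _ ⟨χ, -, rfl⟩
        exact ⟨H19.RegSpan.pRegularPart_isClassFunction (H12.irr_isClassFunction χ),
          fun g hg => H22.pRegularPart_of_dvd _ hg⟩
      · exact ⟨fun _ _ => rfl, fun _ _ => rfl⟩
      · rintro a b - - ⟨ha, ha'⟩ ⟨hb, hb'⟩
        exact ⟨fun g h => by simp [ha g h, hb g h], fun g hg => by simp [ha' g hg, hb' g hg]⟩
      · rintro r a - ⟨ha, ha'⟩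
        exact ⟨fun g h => by simp [ha g h], fun g hg => by simp [ha' g hg]⟩
    let R : Sp →ₗ[ℂ] (E → ℂ) :=
      { toFun := fun f u => (f : G → ℂ) u
        map_add' := fun _ _ => rfl
        map_smul' := fun _ _ => rfl }
    have hR : Function.Injective R := by
      rw [injective_iff_map_eq_zero]
      intro f hf
      obtain ⟨hcl, hz⟩ := hprop _ f.2
      refine Subtype.ext (funext fun g => ?_)
      show (f : G → ℂ) g = 0
      by_cases hg : 2 ∣ orderOf g
      · exact hz g hg
      · rcases eq_or_ne g 1 with rfl | hg1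
        · exact congrFun hf (1 : E)
        · obtain ⟨m, hm⟩ := hreg g hg hg1
          have h := congrFun hf ⟨_, hm⟩
          first
            | exact (hcl g m).symm.trans h
            | exact (hcl m g).symm.trans h
    have h := LinearMap.finrank_le_finrank_of_injective hR
    rw [Module.finrank_fintype_fun_eq_card, ← Nat.card_eq_fintype_card, hEc] at h
    exact h
  · -- the linear characters
    haveI : IsCyclic (G ⧸ (P : Subgroup G)) :=
      isCyclic_of_prime_card (by rw [← Subgroup.index_eq_card, hidx])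
    letI : CommGroup (G ⧸ (P : Subgroup G)) := IsCyclic.commGroup
    haveI : Finite ((G ⧸ (P : Subgroup G)) →* ℂˣ) := H20.finite_dual
    haveI : Fintype ((G ⧸ (P : Subgroup G)) →* ℂˣ) := Fintype.ofFinite _
    haveI : Fintype (G ⧸ (P : Subgroup G)) := Fintype.ofFinite _
    have hdual : Nat.card ((G ⧸ (P : Subgroup G)) →* ℂˣ) = e := by
      rw [← hidx, Subgroup.index_eq_card]
      exact (CommGroup.monoidHom_mulEquiv_of_hasEnoughRootsOfUnity (G ⧸ (P : Subgroup G)) ℂ).elim
        fun f => Nat.card_congr f.toEquiv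
    let ψ : ((G ⧸ (P : Subgroup G)) →* ℂˣ) → IrrCharacter G := fun l =>
      H12.linIrr (l.comp (QuotientGroup.mk' (P : Subgroup G)))
    have hsolv : IsPSolvable 2 G := by
      haveI := isSolvable_of_normal P
      exact H10.isPSolvable_of_isSolvable
    have hmem : ∀ χ : IrrCharacter G, χ ∈ principalBlock M G := fun χ => by
      have h := H20.single_block hM hsolv hO (H12.oneIrr G) χ
      first
        | exact h
        | exact h.symm
    let v : ((G ⧸ (P : Subgroup G)) →* ℂˣ) →
        Submodule.span ℂ
          ((fun χ : IrrCharacter G => pRegularPart 2 (χ : G → ℂ)) '' principalBlock M G) :=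
      fun l => ⟨pRegularPart 2 (ψ l : G → ℂ), Submodule.subset_span ⟨ψ l, hmem _, rfl⟩⟩
    let rE : E →* (G ⧸ (P : Subgroup G)) :=
      (QuotientGroup.mk' (P : Subgroup G)).comp E.subtype
    have hrE : Function.Surjective rE := by
      refine Function.Injective.bijective_of_nat_card_le ?_ (by
        rw [← Subgroup.index_eq_card, hidx, hEc]) |>.2
      rw [injective_iff_map_eq_one]
      intro u hu
      have h1 : orderOf (u : G) ∣ Nat.card (P : Subgroup G) :=
        Subgroup.orderOf_dvd_natCard _ ((QuotientGroup.eq_one_iff (u : G)).1 hu)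
      have h2 : orderOf (u : G) ∣ e := hEc ▸ Subgroup.orderOf_dvd_natCard _ u.2
      exact Subtype.ext (orderOf_eq_one_iff.1 (Nat.eq_one_of_dvd_coprimes hPe h1 h2))
    have hoddE : ∀ u : E, ¬ 2 ∣ orderOf (u : G) := fun u h => he2
      ((Nat.prime_dvd_prime_iff_eq Nat.prime_two he).1
        (h.trans (hEc ▸ Subgroup.orderOf_dvd_natCard _ u.2))).symm
    have hind : LinearIndependent ℂ v := by
      let L : Submodule.span ℂ
          ((fun χ : IrrCharacter G => pRegularPart 2 (χ : G → ℂ)) '' principalBlock M G)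
          →ₗ[ℂ] (E → ℂ) :=
        { toFun := fun f u => (f : G → ℂ) u
          map_add' := fun _ _ => rfl
          map_smul' := fun _ _ => rfl }
      refine LinearIndependent.of_comp L ?_
      let θ : ((G ⧸ (P : Subgroup G)) →* ℂˣ) → (E →* ℂ) := fun l =>
        (Units.coeHom ℂ).comp (l.comp rE)
      have hθ : Function.Injective θ := fun l l' h => MonoidHom.ext fun q => by
        obtain ⟨u, rfl⟩ := hrE q
        exact Units.ext (DFunLike.congr_fun h u)
      have hlin := (linearIndependent_monoidHom E ℂ).comp θ hθ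
      have e' : (⇑L ∘ v) = (fun g : E →* ℂ => (g : E → ℂ)) ∘ θ := by
        funext l u
        show pRegularPart 2 (ψ l : G → ℂ) (u : G) = _
        rw [H22.pRegularPart_of_not_dvd _ (hoddE u)]
        rfl
      rw [e']
      exact hlin
    have h := hind.fintype_card_le_finrank
    rw [← Nat.card_eq_fintype_card, hdual] at h
    exact h

variable (hfree : ∀ u ∈ (P : Subgroup G), u ≠ 1 → H85.AbTwo.Reg (P : Subgroup G) u)

include hfree

/-- In the free case the rank and the number of orbits. -/
theorem card_free (hM : IsPModular 2 M) :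
    ∃ n : ℕ, Nat.card (principalBlock M G) = blockRank 2 (principalBlock M G) + n ∧
      n * Nat.card (H20.autG (P : Subgroup G)) + 1 = Nat.card (P : Subgroup G) := by
  obtain ⟨n, h1, h2⟩ := card_principal_eq (M := M) P hM ⊥ bot_le bot_le
    fun u hu hu1 => hfree u hu (fun h => hu1 (Subgroup.mem_bot.2 h))
  rw [Subgroup.card_bot] at h1 h2
  exact ⟨n, by rw [h1, one_mul], h2⟩

/-- **The free case.** -/
theorem main_free (hM : IsPModular 2 M) (hO : pPrimeCore 2 G = ⊥)
    (he : (Nat.card (H20.autG (P : Subgroup G))).Prime)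
    (hgood : ∀ H W T : Subgroup G, H64.SEP.Setup G H W T → H64.SEP.Good H W T) :
    blockRank 2 (principalBlock M G) = Nat.card (H20.autG (P : Subgroup G)) ∧
      (¬ Group.IsSolvable G →
        Nat.card (P : Subgroup G) = Nat.card (H20.autG (P : Subgroup G)) + 1) := by
  classical
  haveI : Fact (Nat.Prime 2) := ⟨Nat.prime_two⟩
  by_cases hn : (P : Subgroup G).Normal
  · haveI := hn
    exact ⟨rank_normal P hM hO he, fun h => absurd (isSolvable_of_normal P) h⟩
  obtain ⟨hsq, hcardP, hcase⟩ := free_nonnormal P hfree hO hn he hgood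
  refine ⟨?_, fun _ => hcardP⟩
  obtain ⟨n, hk, hnP⟩ := card_free (M := M) P hfree hM
  have hn1 : n = 1 := by
    rw [hcardP] at hnP
    exact Nat.eq_of_mul_eq_mul_right he.pos (by omega)
  subst hn1
  obtain ⟨x, hx, hx1⟩ : ∃ x ∈ (P : Subgroup G), x ≠ 1 := by
    by_contra hcon
    push Not at hcon
    exact hn (by rw [(Subgroup.eq_bot_iff_forall _).2 hcon]; infer_instance)
  have hx2 : orderOf x = 2 := orderOf_eq_prime (by rw [pow_two]; exact hsq x hx) hx1
  have hreg := hfree x hx hx1
  rcases hcase with h4 | ⟨F, iF, iF', hF, ⟨f⟩⟩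
  · have h := H85.AbTwo.card_of_four (M := M) P hM hx hx2 hreg h4
    omega
  obtain ⟨hone, hkcard, hne, hsum⟩ := H85.AbTwo.column_data (M := M) P hM hx hx2 hreg
  rcases Nat.lt_or_ge (Nat.card (P : Subgroup G)) 8 with h8 | h8
  · obtain ⟨j, hj⟩ := IsPGroup.iff_card.1 P.2
    have hj3 : j < 3 := by
      by_contra hcon
      have := Nat.pow_le_pow_right two_pos (not_lt.1 hcon)
      omega
    have h2 := he.two_le
    have h4 : Nat.card (P : Subgroup G) = 4 := by interval_cases j <;> omega
    have h := H85.AbTwo.card_of_four (M := M) P hM hx hx2 hreg h4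
    omega
  have hconj : ∀ g : G, (∃ k : ℕ, orderOf g = 2 ^ k) → g ≠ 1 → IsConj g x := fun g hg hg1 =>
    H19.OneSec.isConj_of_card hM hk hg hg1 (H85.AbTwo.orderOf_pow_mem P hx) hx1
  -- the degrees
  have hchar : CharP F 2 := by
    obtain ⟨p, hp⟩ := CharP.exists F
    haveI := hp
    obtain ⟨a, hpp, ha⟩ := FiniteField.card F p
    obtain ⟨j, hj⟩ := IsPGroup.iff_card.1 P.2
    have hdvd : p ∣ 2 ^ j := by rw [← hj, ← hF, ha]; exact dvd_pow_self p a.ne_zero
    have : p = 2 := (Nat.prime_dvd_prime_iff_eq hpp Nat.prime_two).1 (hpp.dvd_of_dvd_pow hdvd)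
    subst this
    exact hp
  haveI := hchar
  let φ : Matrix.SpecialLinearGroup (Fin 2) F →* G :=
    f.symm.toMonoidHom.comp (QuotientGroup.mk' _)
  have hφ : Function.Surjective φ := f.symm.surjective.comp (QuotientGroup.mk'_surjective _)
  have hdv : ∀ χ ∈ H22.blockFinset (principalBlock M G),
      H85.AbTwo.dv x χ ^ 2 = 1 := by
    intro χ hχ
    have hcases := (Cfsg.Agent.S2300.result (F := F)).1 _
      (H12.IsIrrCharacter.comp_surjective χ.2 hφ)
    simp only [Function.comp_apply, map_one, H12.irr_apply_one] at hcases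
    rw [hF] at hcases
    set q := Nat.card (P : Subgroup G) with hq
    set d := H12.degree (χ : G → ℂ) with hd
    obtain ⟨a, ha, hdvd⟩ := H19.OneSec.exists_value P hx hx1 hconj χ
    have had : a = H85.AbTwo.dv x χ := by
      have e4 := ha.symm.trans (H85.AbTwo.dv_eq hx2 χ)
      exact_mod_cast e4
    subst had
    set a := H85.AbTwo.dv x χ with hadef
    have hsq' : a ^ 2 ≤ (q : ℤ) := by
      rw [hq, ← hsum]
      exact Finset.single_le_sum (f := fun ψ => H85.AbTwo.dv x ψ ^ 2)
        (fun ψ _ => sq_nonneg _) hχ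
    have ha0 : a ≠ 0 := hne χ hχ
    obtain ⟨t, ht⟩ := hdvd
    have hq8 : (8 : ℤ) ≤ q := by exact_mod_cast h8
    rw [← hd] at ht
    have key : ∀ r : ℤ, (r = 1 ∨ r = -1 ∨ r = 0) → ∀ k : ℤ, a = r + (q : ℤ) * k → a ^ 2 = 1 := by
      intro r hr k hak
      have hk1 : k = 0 := by
        by_contra hk0
        rcases lt_or_gt_of_ne hk0 with hlt | hgt
        · have : a ≤ 1 - (q : ℤ) := by rcases hr with rfl | rfl | rfl <;> nlinarith
          nlinarith
        · have : (q : ℤ) - 1 ≤ a := by rcases hr with rfl | rfl | rfl <;> nlinarith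
          nlinarith
      subst hk1
      rw [mul_zero, add_zero] at hak
      rcases hr with rfl | rfl | rfl
      · rw [hak, one_pow]
      · rw [hak]; norm_num
      · exact absurd hak ha0
    rcases hcases with h | h | h | h
    · have : d = 1 := by exact_mod_cast h
      exact key 1 (Or.inl rfl) t (by rw [this] at ht; push_cast at ht; linarith)
    · have h' : (d : ℂ) + 1 = (q : ℂ) := by rw [h]; ring
      have : (d : ℤ) = q - 1 := by
        have : d + 1 = q := by exact_mod_cast h'
        omega
      exact key (-1) (Or.inr (Or.inl rfl)) (t + 1) (by rw [this] at ht; linarith)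
    · have : d = q := by exact_mod_cast h
      exact key 0 (Or.inr (Or.inr rfl)) (t + 1) (by rw [this] at ht; linarith)
    · have : d = q + 1 := by exact_mod_cast h
      exact key 1 (Or.inl rfl) (t + 1) (by rw [this] at ht; push_cast at ht; linarith)
  rw [Finset.sum_congr rfl hdv, Finset.sum_const, nsmul_eq_mul, mul_one, hkcard] at hsum
  have hkq : Nat.card (principalBlock M G) = Nat.card (P : Subgroup G) := by exact_mod_cast hsum
  omega

end H25.AbPrime
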