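import Cfsg.Agent.H25.AbPrime.Free
import Cfsg.Agent.H85.InflationRank
import Cfsg.Agent.H8.E16.CoreFree

/-!
The principal 2-block for an abelian Sylow 2-subgroup with automizer of prime order: passage to the
quotient by the odd core and by the central part (for S4568).
-/

set_option autoImplicit false
set_option linter.style.haveILetI false
set_option linter.unusedSectionVars false

open Cfsg Finset

namespace H25.AbPrime

universe u

variable {G : Type u} [Group G] [Fintype G] {M : Ideal AlgInt} [hMp : M.IsPrime]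

local notation "N[" P "]" => (Subgroup.normalizer ((P : Subgroup _) : Set _))

/-- The image of `P` has an automizer of the same order when no automorphism becomes trivial. -/
theorem card_autG_map {H : Type u} [Group H] [Finite H] (P : Sylow 2 G) (f : G →* H)
    (hf : Function.Surjective f)
    (hker : ∀ n ∈ Subgroup.normalizer ((P : Subgroup G) : Set G),
      (∀ w ∈ (P : Subgroup G), f (n * w * n⁻¹) = f w) →
        n ∈ Subgroup.centralizer ((P : Subgroup G) : Set G)) :
    Nat.card (H20.autG ((P : Subgroup G).map f)) = Nat.card (H20.autG (P : Subgroup G)) := by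
  haveI : Fact (Nat.Prime 2) := ⟨Nat.prime_two⟩
  haveI : Fintype H := Fintype.ofFinite H
  rw [H20.card_autG, H20.card_autG, ← H25.RealOdd.map_normalizer_sylow 2 f hf P,
    ← Subgroup.relIndex_comap]
  set C := Subgroup.centralizer ((P : Subgroup G) : Set G)
  set N := Subgroup.normalizer ((P : Subgroup G) : Set G)
  rw [← Subgroup.inf_relIndex_right, ← Subgroup.inf_relIndex_right C]
  congr 1
  refine le_antisymm (fun n hn => ⟨hker n hn.2 fun w hw => ?_, hn.2⟩) fun n hn =>
    ⟨?_, hn.2⟩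
  · rintro _ ⟨w, hw, rfl⟩
    rw [← map_mul, ← map_mul, hn.1 w hw]
  · have := hn.1 (f w) ⟨w, hw, rfl⟩
    rw [map_mul, map_mul, map_inv, ← this, mul_inv_cancel_right]

/-- The rank of the principal block is unchanged modulo the odd core. -/
theorem blockRank_principal_core (hM : IsPModular 2 M) [(pPrimeCore 2 G).Normal] :
    blockRank 2 (principalBlock M (G ⧸ pPrimeCore 2 G)) = blockRank 2 (principalBlock M G) := by
  classical
  haveI : Fact (Nat.Prime 2) := ⟨Nat.prime_two⟩
  set O := pPrimeCore 2 G with hOdef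
  haveI : Fintype (G ⧸ O) := Fintype.ofFinite _
  have hN : ¬ 2 ∣ Nat.card O := H24.not_dvd_card_pPrimeCore hM.1
  have hiff : ∀ g : G, 2 ∣ orderOf (g : G ⧸ O) ↔ 2 ∣ orderOf g := by
    intro g
    refine ⟨fun h => h.trans (orderOf_map_dvd (QuotientGroup.mk' O) g), fun h => ?_⟩
    have h1 : g ^ orderOf (g : G ⧸ O) ∈ O := by
      rw [← QuotientGroup.eq_one_iff, QuotientGroup.mk_pow, pow_orderOf_eq_one]
    have h2 : orderOf g ∣ orderOf (g : G ⧸ O) * Nat.card O := by
      refine orderOf_dvd_of_pow_eq_one ?_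
      rw [pow_mul]
      exact orderOf_dvd_iff_pow_eq_one.1 (Subgroup.orderOf_dvd_natCard _ h1)
    exact (Nat.prime_two.dvd_mul.1 (h.trans h2)).resolve_right hN
  let T : (G ⧸ O → ℂ) →ₗ[ℂ] (G → ℂ) := LinearMap.funLeft ℂ ℂ (QuotientGroup.mk : G → G ⧸ O)
  have hT : Function.Injective T :=
    LinearMap.funLeft_injective_of_surjective ℂ ℂ _ QuotientGroup.mk_surjective
  have hTreg : ∀ ψ : IrrCharacter (G ⧸ O), T (pRegularPart 2 (ψ : G ⧸ O → ℂ)) =
      pRegularPart 2 (H24.inflate O ψ : G → ℂ) := by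
    intro ψ
    funext g
    show pRegularPart 2 (ψ : G ⧸ O → ℂ) (g : G ⧸ O) = _
    by_cases hg : 2 ∣ orderOf g
    · rw [H22.pRegularPart_of_dvd _ hg, H22.pRegularPart_of_dvd _ ((hiff g).2 hg)]
    · rw [H22.pRegularPart_of_not_dvd _ hg,
        H22.pRegularPart_of_not_dvd _ fun h => hg ((hiff g).1 h)]
      rfl
  have himg : (Submodule.span ℂ ((fun χ : IrrCharacter (G ⧸ O) =>
      pRegularPart 2 (χ : G ⧸ O → ℂ)) '' principalBlock M (G ⧸ O))).map T =
      Submodule.span ℂ ((fun χ : IrrCharacter G => pRegularPart 2 (χ : G → ℂ)) ''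
        principalBlock M G) := by
    rw [Submodule.map_span]
    congr 1
    ext f
    constructor
    · rintro ⟨_, ⟨ψ, hψ, rfl⟩, rfl⟩
      exact ⟨H24.inflate O ψ, (H24.inflate_mem_principalBlock_iff O hM hN ψ).2 hψ, (hTreg ψ).symm⟩
    · rintro ⟨χ, hχ, rfl⟩
      obtain ⟨ψ, hψ⟩ := H24.exists_deflate O χ fun n hn =>
        H24.mem_kerChar.2 (H20.principal_pPrimeCore_ker hM hχ hn)
      refine ⟨_, ⟨ψ, (H24.inflate_mem_principalBlock_iff O hM hN ψ).1 (by rw [hψ]; exact hχ),
        rfl⟩, ?_⟩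
      rw [hTreg, hψ]
  unfold blockRank
  rw [← himg]
  exact (Submodule.equivMapOfInjective T hT _).finrank_eq

/-- The elements of `P` fixed by the normalizer. -/
def fixedSub (P : Sylow 2 G) : Subgroup G :=
  (P : Subgroup G) ⊓
    Subgroup.centralizer ((Subgroup.normalizer ((P : Subgroup G) : Set G) : Subgroup G) : Set G)

/-- **The principal block**, given the special strongly embedded theorem. -/
theorem main_core (hM : IsPModular 2 M) (hO : pPrimeCore 2 G = ⊥) (P : Sylow 2 G)
    [hc : IsMulCommutative P] (he : (Nat.card (H20.autG (P : Subgroup G))).Prime)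
    (hgood : ∀ (K : Type u) [Group K] [Finite K], ∀ H W T : Subgroup K,
      H64.SEP.Setup K H W T → H64.SEP.Good H W T) :
    blockRank 2 (principalBlock M G) = Nat.card (H20.autG (P : Subgroup G)) ∧
      (¬ Group.IsSolvable G → Nat.card (principalBlock M G) = Nat.card (P : Subgroup G)) := by
  classical
  haveI : Fact (Nat.Prime 2) := ⟨Nat.prime_two⟩
  set e := Nat.card (H20.autG (P : Subgroup G)) with hedef
  set N := Subgroup.normalizer ((P : Subgroup G) : Set G) with hN
  set C := Subgroup.centralizer ((P : Subgroup G) : Set G) with hC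
  set Z := fixedSub P with hZdef
  have hfix : ∀ {z}, z ∈ Z → ∀ n ∈ N, n * z * n⁻¹ = z := fun hz n hn => by
    rw [hz.2 n hn, mul_inv_cancel_right]
  have hZP : Z ≤ (P : Subgroup G) := inf_le_left
  have hZc : Z ≤ Subgroup.center G := fun z hz =>
    H18.central_of_normalizer_fixed H85.AbTwo.zStarHyp (Nat.card G) G rfl
      (fun K hK hodd => le_bot_iff.1 (hO ▸ (haveI := hK;
        H1.le_pPrimeCore (Nat.coprime_two_right.2 hodd))))
      P hc z hz.1 (fun n hn => hfix hz n hn)
  haveI hZn : Z.Normal := ⟨fun z hz g => by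
    rw [Subgroup.mem_center_iff.1 (hZc hz) g, mul_inv_cancel_right]; exact hz⟩
  -- an element of the normalizer moving by `Z` does not move
  have hstep : ∀ n ∈ N, ∀ w ∈ (P : Subgroup G), ∀ z ∈ Z, n * w * n⁻¹ = w * z →
      n * w * n⁻¹ = w := by
    intro n hn w hw z hz h
    obtain ⟨m, hm, hmC⟩ := H85.AbTwo.exists_odd_pow P hn
    have hj : ∀ j : ℕ, n ^ j * w * (n ^ j)⁻¹ = w * z ^ j := by
      intro j
      induction j with
      | zero => simp
      | succ j ih =>
        calc n ^ (j + 1) * w * (n ^ (j + 1))⁻¹ = n * (n ^ j * w * (n ^ j)⁻¹) * n⁻¹ := by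
              rw [pow_succ']; group
          _ = (n * w * n⁻¹) * (n * z ^ j * n⁻¹) := by rw [ih]; group
          _ = w * z ^ (j + 1) := by rw [h, hfix (pow_mem hz j) n hn, pow_succ', mul_assoc]
    have h1 := hj m
    rw [← hmC w hw, mul_inv_cancel_right] at h1
    have hz1 : z ^ m = 1 := mul_left_cancel (a := w) (by rw [← h1, mul_one])
    obtain ⟨l, hl⟩ := H85.AbTwo.orderOf_pow_mem P (hZP hz)
    have : z = 1 := orderOf_eq_one_iff.1 (Nat.eq_one_of_dvd_coprimes
      (Nat.Coprime.pow_left l (Nat.coprime_two_left.2 hm)) (hl ▸ dvd_rfl)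
      (orderOf_dvd_of_pow_eq_one hz1))
    rw [h, this, mul_one]
  -- regularity outside `Z`
  have hCN : C ≤ N := Subgroup.centralizer_le_normalizer _
  have hreg : ∀ u ∈ (P : Subgroup G), u ∉ Z → H85.AbTwo.Reg (P : Subgroup G) u := by
    intro u hu huZ n hn hnu
    let S : Subgroup G := N ⊓ Subgroup.centralizer ({u} : Set G)
    have hCS : C ≤ S := le_inf hCN fun c hc' => Subgroup.mem_centralizer_singleton_iff.2
      (hc' u hu).symm
    have hmul : C.relIndex S * S.relIndex N = e := by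
      rw [Subgroup.relIndex_mul_relIndex _ _ _ hCS inf_le_left, hedef, card_autG_eq_relIndex]
    rcases he.eq_one_or_self_of_dvd _ ⟨_, hmul.symm⟩ with h | h
    · exact Subgroup.relIndex_eq_one.1 h ⟨hn, Subgroup.mem_centralizer_singleton_iff.2
        (mul_inv_eq_iff_eq_mul.1 hnu)⟩
    · exfalso
      have h1 : S.relIndex N = 1 := by
        rw [h] at hmul
        exact Nat.eq_of_mul_eq_mul_left he.pos (hmul.trans (mul_one e).symm)
      refine huZ ⟨hu, fun m hm => ?_⟩
      exact Subgroup.mem_centralizer_singleton_iff.1 (Subgroup.relIndex_eq_one.1 h1 hm).2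
  -- the quotient by `Z`
  let π := QuotientGroup.mk' Z
  have hπ : Function.Surjective π := QuotientGroup.mk'_surjective Z
  let Q : Sylow 2 (G ⧸ Z) := P.mapSurjective hπ
  have hQ : (Q : Subgroup (G ⧸ Z)) = (P : Subgroup G).map π := Sylow.coe_mapSurjective hπ P
  haveI : IsMulCommutative Q := ⟨⟨fun a b => Subtype.ext (by
    obtain ⟨a', ha', ea⟩ := (hQ ▸ a.2 : (a : G ⧸ Z) ∈ (P : Subgroup G).map π)
    obtain ⟨b', hb', eb⟩ := (hQ ▸ b.2 : (b : G ⧸ Z) ∈ (P : Subgroup G).map π)
    show (a : G ⧸ Z) * b = b * a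
    rw [← ea, ← eb, ← map_mul, ← map_mul, comm_mem P ha' hb'])⟩⟩
  haveI : Fintype (G ⧸ Z) := Fintype.ofFinite _
  have hker : ∀ n ∈ N, ∀ w ∈ (P : Subgroup G), π (n * w * n⁻¹) = π w → n * w * n⁻¹ = w :=
    fun n hn w hw h => hstep n hn w hw (w⁻¹ * (n * w * n⁻¹)) (QuotientGroup.eq.1 h.symm)
      (mul_inv_cancel_left w _).symm
  have heQ : Nat.card (H20.autG (Q : Subgroup (G ⧸ Z))) = e := by
    rw [hQ]
    refine card_autG_map P π hπ fun n hn h w hw => ?_
    have := hker n hn w hw (h w hw)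
    exact (mul_inv_eq_iff_eq_mul.1 this).symm
  have hfreeQ : ∀ u ∈ (Q : Subgroup (G ⧸ Z)), u ≠ 1 → H85.AbTwo.Reg (Q : Subgroup (G ⧸ Z)) u := by
    rw [hQ]
    rintro _ ⟨v, hv, rfl⟩ hv1
    exact H85.AbTwo.reg_map P π hπ (hreg v hv fun h => hv1 ((QuotientGroup.eq_one_iff v).2 h))
      fun n hn h => hker n hn v hv h
  have hOQ : pPrimeCore 2 (G ⧸ Z) = ⊥ :=
    H8.E16.pPrimeCore_quot_eq_bot hO Z fun z hz g => (Subgroup.mem_center_iff.1 (hZc hz) g).symm
  obtain ⟨hl, hns⟩ := main_free (M := M) Q hfreeQ hM hOQ (heQ ▸ he) (hgood (G ⧸ Z))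
  rw [heQ] at hl hns
  have hZp : IsPGroup 2 Z := P.2.to_le hZP
  have hl' : blockRank 2 (principalBlock M G) = e := by
    rw [H85.blockRank_principal_quotient hM Z hZc hZp, hl]
  refine ⟨hl', fun hnsol => ?_⟩
  have hQns : ¬ Group.IsSolvable (G ⧸ Z) := fun hs => hnsol (by
    haveI := hs
    haveI : Group.IsNilpotent Z := hZp.isNilpotent
    exact Group.isSolvable_of_ker_le_range Z.subtype π
      (by rw [QuotientGroup.ker_mk', Subgroup.range_subtype]))
  have hQcard := hns hQns
  have hPZ : Nat.card (P : Subgroup G) = Nat.card Z * (e + 1) := by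
    have e1 : ((P : Subgroup G).map π).comap π = (P : Subgroup G) := by
      rw [Subgroup.comap_map_eq, QuotientGroup.ker_mk', sup_eq_left.2 hZP]
    rw [← e1, H1.card_comap_mk', ← hQ]
    exact congrArg (Nat.card Z * ·) hQcard
  obtain ⟨n, hk, hnP⟩ := card_principal_eq (M := M) P hM Z hZP hZc hreg
  rw [hl'] at hk
  rw [← hedef, hPZ, Nat.mul_succ] at hnP
  have hn' : n = Nat.card Z :=
    Nat.eq_of_mul_eq_mul_right he.pos (by omega)
  rw [hk, hn', hPZ, Nat.mul_succ]

/-- The theorem of S4568, given the special strongly embedded theorem. -/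
theorem main (hM : IsPModular 2 M) (P : Sylow 2 G) [hc : IsMulCommutative P]
    (he : (Nat.card (H20.autG (P : Subgroup G))).Prime)
    (hgood : ∀ (K : Type u) [Group K] [Finite K], ∀ H W T : Subgroup K,
      H64.SEP.Setup K H W T → H64.SEP.Good H W T) :
    blockRank 2 (principalBlock M G) = Nat.card (H20.autG (P : Subgroup G)) ∧
      (¬ Group.IsSolvable G → Nat.card (principalBlock M G) = Nat.card (P : Subgroup G)) := by
  classical
  haveI : Fact (Nat.Prime 2) := ⟨Nat.prime_two⟩
  haveI := H1.pPrimeCore_normal' 2 G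
  set O := pPrimeCore 2 G with hOdef
  let f := QuotientGroup.mk' O
  have hf : Function.Surjective f := QuotientGroup.mk'_surjective O
  have hdisj : ∀ w ∈ (P : Subgroup G), f w = 1 → w = 1 := by
    intro w hw h
    obtain ⟨k, hk⟩ := H85.AbTwo.orderOf_pow_mem P hw
    exact orderOf_eq_one_iff.1 (Nat.eq_one_of_dvd_coprimes
      (Nat.Coprime.pow_left k (H1.card_pPrimeCore_coprime 2 G).symm) (hk ▸ dvd_rfl)
      (Subgroup.orderOf_dvd_natCard _ ((QuotientGroup.eq_one_iff w).1 h)))
  let Q : Sylow 2 (G ⧸ O) := P.mapSurjective hf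
  have hQ : (Q : Subgroup (G ⧸ O)) = (P : Subgroup G).map f := Sylow.coe_mapSurjective hf P
  haveI : IsMulCommutative Q := ⟨⟨fun a b => Subtype.ext (by
    obtain ⟨a', ha', ea⟩ := (hQ ▸ a.2 : (a : G ⧸ O) ∈ (P : Subgroup G).map f)
    obtain ⟨b', hb', eb⟩ := (hQ ▸ b.2 : (b : G ⧸ O) ∈ (P : Subgroup G).map f)
    show (a : G ⧸ O) * b = b * a
    rw [← ea, ← eb, ← map_mul, ← map_mul, comm_mem P ha' hb'])⟩⟩
  haveI : Fintype (G ⧸ O) := Fintype.ofFinite _
  have heQ : Nat.card (H20.autG (Q : Subgroup (G ⧸ O))) = Nat.card (H20.autG (P : Subgroup G)) := by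
    rw [hQ]
    refine card_autG_map P f hf fun n hn h w hw => ?_
    have hm : n * w * n⁻¹ * w⁻¹ ∈ (P : Subgroup G) :=
      mul_mem ((Subgroup.mem_normalizer_iff.1 hn w).1 hw) (inv_mem hw)
    have h1 := hdisj _ hm (by rw [map_mul, map_inv, h w hw, mul_inv_cancel])
    exact (mul_inv_eq_iff_eq_mul.1 (mul_inv_eq_one.1 h1)).symm
  have hcard : Nat.card (Q : Subgroup (G ⧸ O)) = Nat.card (P : Subgroup G) := by
    have hinj : Function.Injective (f.comp (P : Subgroup G).subtype) := by
      rw [injective_iff_map_eq_one]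
      intro w hw
      exact Subtype.ext (hdisj w w.2 hw)
    rw [hQ, Nat.card_congr (MonoidHom.ofInjective hinj).toEquiv, MonoidHom.range_comp,
      Subgroup.range_subtype]
  obtain ⟨h1, h2⟩ := main_core (M := M) hM (H1.pPrimeCore_quotient_pPrimeCore 2) Q (heQ ▸ he) hgood
  rw [blockRank_principal_core hM, heQ] at h1
  refine ⟨h1, fun hnsol => ?_⟩
  rw [← H85.AbTwo.card_principal_quotient_core hM, ← hcard]
  refine h2 fun hs => hnsol ?_
  haveI := hs
  haveI : Group.IsSolvable O := H16.FT.oddOrder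
    (Nat.coprime_two_right.1 (H1.card_pPrimeCore_coprime 2 G))
  exact Group.isSolvable_of_ker_le_range O.subtype f
    (by rw [QuotientGroup.ker_mk', Subgroup.range_subtype])

end H25.AbPrime
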